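import Mathlib

/-!
Merging two members of a cover of a group into one proper subgroup.
-/

set_option autoImplicit false

namespace Cfsg.Agent.Lib.Cover

variable {G : Type*} [Group G]

/-- A minimal cover cannot have two distinct members inside one proper subgroup. -/
theorem no_merge (𝓐 : Finset (Subgroup G)) (hcov : ∀ g : G, ∃ A ∈ 𝓐, g ∈ A) (hprop : ∀ A ∈ 𝓐, A ≠ ⊤)
    (hmin : ∀ 𝓑 : Finset (Subgroup G), (∀ A ∈ 𝓑, A ≠ ⊤) ∧ (∀ g : G, ∃ A ∈ 𝓑, g ∈ A) → 𝓐.card ≤ 𝓑.card)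
    {B A₁ A₂ : Subgroup G} (hB : B ≠ ⊤) (h1 : A₁ ∈ 𝓐) (h2 : A₂ ∈ 𝓐) (hne : A₁ ≠ A₂) (h1B : A₁ ≤ B)
    (h2B : A₂ ≤ B) : False := by
  classical
  let 𝓑 : Finset (Subgroup G) := insert B ((𝓐.erase A₁).erase A₂)
  have hm : A₂ ∈ 𝓐.erase A₁ := Finset.mem_erase.mpr ⟨hne.symm, h2⟩
  have hc : 𝓑.card < 𝓐.card := by
    have e1 : 𝓑.card ≤ ((𝓐.erase A₁).erase A₂).card + 1 := Finset.card_insert_le _ _
    have e2 : ((𝓐.erase A₁).erase A₂).card = (𝓐.erase A₁).card - 1 := Finset.card_erase_of_mem hm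
    have e3 : (𝓐.erase A₁).card = 𝓐.card - 1 := Finset.card_erase_of_mem h1
    have e4 : 0 < (𝓐.erase A₁).card := Finset.card_pos.mpr ⟨_, hm⟩
    omega
  have := hmin 𝓑 ⟨?_, ?_⟩
  · omega
  · intro A hA
    rcases Finset.mem_insert.mp hA with rfl | hA
    · exact hB
    · exact hprop A (Finset.mem_of_mem_erase (Finset.mem_of_mem_erase hA))
  · intro g
    obtain ⟨A, hA, hg⟩ := hcov g
    by_cases e1 : A = A₁
    · exact ⟨B, Finset.mem_insert_self _ _, h1B (e1 ▸ hg)⟩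
    by_cases e2 : A = A₂
    · exact ⟨B, Finset.mem_insert_self _ _, h2B (e2 ▸ hg)⟩
    exact ⟨A, Finset.mem_insert_of_mem (Finset.mem_erase.mpr ⟨e2, Finset.mem_erase.mpr ⟨e1, hA⟩⟩), hg⟩

end Cfsg.Agent.Lib.Cover
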