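import Mathlib

/-!
A group of linear maps which is nilpotent modulo scalars and contains a unipotent element with a
one-dimensional fixed space stabilises that line.
-/

set_option autoImplicit false

universe v

namespace Cfsg.Agent.Lib.Cover

open Module

variable {F : Type*} [Field F]

/-- The elements of `P` acting as scalars. -/
def scalarSub {P : Type*} [Group P] {V : Type*} [AddCommGroup V] [Module F V]
    (ρ : P →* Module.End F V) : Subgroup P where
  carrier := {x | ∃ c : F, ∀ v, ρ x v = c • v}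
  mul_mem' := by
    rintro a b ⟨c, hc⟩ ⟨d, hd⟩
    refine ⟨c * d, fun v => ?_⟩
    rw [map_mul, Module.End.mul_apply, hd, map_smul, hc, smul_smul, mul_comm]
  one_mem' := ⟨1, fun v => by simp⟩
  inv_mem' := by
    rintro a ⟨c, hc⟩
    refine ⟨c⁻¹, fun v => ?_⟩
    have h1 : c • ρ a⁻¹ v = v := by
      rw [← hc, ← Module.End.mul_apply, ← map_mul]
      simp
    by_cases h0 : c = 0
    · subst h0
      have hv : v = 0 := by rw [← h1, zero_smul]
      simp [hv]
    · rw [← h1, smul_smul, inv_mul_cancel₀ h0, one_smul, h1]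

instance scalarSub_normal {P : Type*} [Group P] {V : Type*} [AddCommGroup V] [Module F V]
    (ρ : P →* Module.End F V) : (scalarSub ρ).Normal where
  conj_mem := by
    rintro a ⟨c, hc⟩ g
    refine ⟨c, fun v => ?_⟩
    rw [map_mul, map_mul, Module.End.mul_apply, Module.End.mul_apply, hc, map_smul,
      ← Module.End.mul_apply, ← map_mul]
    simp

lemma rho_inj {P : Type*} [Group P] {V : Type*} [AddCommGroup V] [Module F V]
    (ρ : P →* Module.End F V) (g : P) {v : V} (h : ρ g v = 0) : v = 0 := by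
  have : ρ g⁻¹ (ρ g v) = v := by
    rw [← Module.End.mul_apply, ← map_mul]
    simp
  rw [← this, h, map_zero]

/-- Main lemma. -/
theorem stab_line {P K : Type*} [Group P] [Group K] [Group.IsNilpotent K] (f : P →* K)
    (hf : Function.Surjective f) (d : ℕ) :
    ∀ (V : Type v) [AddCommGroup V] [Module F V] [FiniteDimensional F V]
      (ρ : P →* Module.End F V) (u : P) (l : V),
      finrank F V = d → (∀ x ∈ f.ker, ∃ c : F, ∀ v, ρ x v = c • v) →
      (∃ k : ℕ, ∀ v, ((ρ u - 1) ^ k) v = 0) → l ≠ 0 → ρ u l = l →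
      (∀ v, ρ u v = v → ∃ c : F, v = c • l) → ∀ g, ∃ c : F, ρ g l = c • l := by
  induction d using Nat.strong_induction_on with
  | _ d ih =>
  intro V _ _ _ ρ u l hd hker hnil hl hul huniq g
  by_cases hall : ∀ x, x ∈ scalarSub ρ
  · obtain ⟨c, hc⟩ := hall g
    exact ⟨c, hc l⟩
  push Not at hall
  obtain ⟨x₀, hx₀⟩ := hall
  -- a central element modulo scalars
  have hle : f.ker ≤ (scalarSub ρ).comap (MonoidHom.id P) := fun x hx => hker x hx
  let φ : K →* P ⧸ scalarSub ρ :=
    (QuotientGroup.map f.ker (scalarSub ρ) (MonoidHom.id P) hle).comp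
      (QuotientGroup.quotientKerEquivOfSurjective f hf).symm.toMonoidHom
  have hφ : Function.Surjective φ := by
    intro y
    obtain ⟨x, rfl⟩ := QuotientGroup.mk_surjective y
    refine ⟨(QuotientGroup.quotientKerEquivOfSurjective f hf) (x : P ⧸ f.ker), ?_⟩
    simp [φ]
  haveI : Group.IsNilpotent (P ⧸ scalarSub ρ) := nilpotent_of_surjective φ hφ
  haveI : Nontrivial (P ⧸ scalarSub ρ) :=
    ⟨⟨(x₀ : P ⧸ scalarSub ρ), 1, fun he => hx₀ ((QuotientGroup.eq_one_iff x₀).mp he)⟩⟩
  obtain ⟨zb, hzb, hzb1⟩ := (Subgroup.bot_or_exists_ne_one (Subgroup.center (P ⧸ scalarSub ρ))).resolve_left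
    (Group.IsNilpotent.center_ne_bot _)
  obtain ⟨z, rfl⟩ := QuotientGroup.mk_surjective zb
  have hz : z ∉ scalarSub ρ := fun h => hzb1 ((QuotientGroup.eq_one_iff z).mpr h)
  set T := ρ z with hT
  have hcomm : ∀ g : P, ∃ c : F, ∀ v, T (ρ g v) = c • ρ g (T v) := by
    intro g
    have h1 := Subgroup.mem_center_iff.mp hzb (g : P ⧸ scalarSub ρ)
    have h2 : ((g * z : P) : P ⧸ scalarSub ρ) = ((z * g : P) : P ⧸ scalarSub ρ) := h1
    obtain ⟨c, hc⟩ : (g * z)⁻¹ * (z * g) ∈ scalarSub ρ := QuotientGroup.eq.mp h2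
    refine ⟨c, fun v => ?_⟩
    have h3 := hc v
    have h4 : ρ (g * z) (ρ ((g * z)⁻¹ * (z * g)) v) = ρ (z * g) v := by
      rw [← Module.End.mul_apply, ← map_mul]
      simp
    rw [h3, map_smul] at h4
    rw [map_mul, map_mul] at h4
    simp only [Module.End.mul_apply] at h4
    rw [← h4]
  have hTinj : ∀ {v : V}, T v = 0 → v = 0 := fun h => rho_inj ρ z h
  -- `T` commutes with `u`
  have hpow : ∀ (w : V) (μ : F), ρ u w = μ • w → ∀ k : ℕ, ((ρ u - 1) ^ k) w = (μ - 1) ^ k • w := by
    intro w μ hw k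
    induction k with
    | zero => simp
    | succ k ihk =>
      have h0 : (ρ u - 1) w = (μ - 1) • w := by
        rw [LinearMap.sub_apply, Module.End.one_apply, hw, sub_smul, one_smul]
      rw [pow_succ, Module.End.mul_apply, h0, map_smul, ihk, smul_smul, pow_succ, mul_comm]
  obtain ⟨k, hk⟩ := hnil
  have hTl : T l ≠ 0 := fun h => hl (hTinj h)
  obtain ⟨c₁, hc₁⟩ := hcomm u
  have hc₁1 : c₁ = 1 := by
    have h1 : T l = c₁ • ρ u (T l) := by
      have := hc₁ l
      rwa [hul] at this
    have hc0 : c₁ ≠ 0 := by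
      rintro rfl
      rw [zero_smul] at h1
      exact hTl h1
    have h2 : ρ u (T l) = c₁⁻¹ • T l := by
      rw [eq_inv_smul_iff₀ hc0]
      exact h1.symm
    have h3 := hpow _ _ h2 k
    rw [hk] at h3
    have h4 : (c₁⁻¹ - 1) ^ k = 0 := by
      by_contra h
      exact hTl ((smul_eq_zero.mp h3.symm).resolve_left h)
    have h5 : c₁⁻¹ - 1 = 0 := (pow_eq_zero_iff (n := k) (by
      rintro rfl
      simp at h4)).mp h4
    have h6 : c₁⁻¹ = 1 := sub_eq_zero.mp h5
    rw [← inv_inv c₁, h6, inv_one]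
  have hTu : ∀ v, T (ρ u v) = ρ u (T v) := by
    intro v
    rw [hc₁ v, hc₁1, one_smul]
  obtain ⟨c₀, hc₀⟩ := huniq (T l) (by rw [← hTu, hul])
  have hc₀0 : c₀ ≠ 0 := by
    rintro rfl
    rw [zero_smul] at hc₀
    exact hTl hc₀
  -- every eigenvalue of `T` is `c₀`
  have heig : ∀ (κ : F) (v : V), v ≠ 0 → T v = κ • v → κ = c₀ := by
    intro κ v hv hTv
    -- the least power of `N` killing `v`
    have hex : ∃ j : ℕ, ((ρ u - 1) ^ j : Module.End F V) v = 0 := ⟨k, hk v⟩
    classical
    let j := Nat.find hex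
    have hj : ((ρ u - 1) ^ j) v = 0 := Nat.find_spec hex
    have hj0 : j ≠ 0 := by
      intro h0
      rw [h0] at hj
      simp at hj
      exact hv hj
    obtain ⟨i, hi⟩ := Nat.exists_eq_succ_of_ne_zero hj0
    have hw : ((ρ u - 1) ^ i) v ≠ 0 := Nat.find_min hex (m := i) (by
      show i < j
      omega)
    have hTN : ∀ m : ℕ, ∀ w, T (((ρ u - 1) ^ m) w) = ((ρ u - 1) ^ m) (T w) := by
      intro m
      induction m with
      | zero => simp
      | succ m ihm =>
        intro w
        rw [pow_succ, Module.End.mul_apply, Module.End.mul_apply, ihm, LinearMap.sub_apply,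
          LinearMap.sub_apply, map_sub, hTu]
        simp
    set w := ((ρ u - 1) ^ i) v with hwdef
    have hTw : T w = κ • w := by
      rw [hwdef, hTN, hTv, map_smul]
    have hNw : (ρ u - 1) w = 0 := by
      have : ((ρ u - 1) ^ (i + 1)) v = 0 := by
        rw [← Nat.succ_eq_add_one, ← hi]
        exact hj
      rw [pow_succ', Module.End.mul_apply] at this
      exact this
    have huw : ρ u w = w := by
      rw [LinearMap.sub_apply, Module.End.one_apply, sub_eq_zero] at hNw
      exact hNw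
    obtain ⟨c₂, hc₂⟩ := huniq w huw
    have hc₂0 : c₂ ≠ 0 := by
      rintro rfl
      rw [zero_smul] at hc₂
      exact hw hc₂
    have e1 : T w = (c₂ * c₀) • l := by rw [hc₂, map_smul, hc₀, smul_smul]
    have e2 : κ • w = (κ * c₂) • l := by rw [hc₂, smul_smul]
    have h7 : (κ * c₂ - c₂ * c₀) • l = 0 := by
      rw [sub_smul, ← e2, ← hTw, e1, sub_self]
    have h8 := (smul_eq_zero.mp h7).resolve_right hl
    have h9 : c₂ * (κ - c₀) = 0 := by linear_combination h8
    exact sub_eq_zero.mp ((mul_eq_zero.mp h9).resolve_left hc₂0)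
  -- `T` commutes with everything
  have hTg : ∀ (g : P) (v : V), T (ρ g v) = ρ g (T v) := by
    intro g v
    obtain ⟨c, hc⟩ := hcomm g
    have hv0 : ρ g l ≠ 0 := fun h => hl (rho_inj ρ g h)
    have h1 : T (ρ g l) = (c * c₀) • ρ g l := by
      rw [hc l, hc₀, map_smul, smul_smul]
    have h2 := heig _ _ hv0 h1
    have h3 : c = 1 := by
      have : (c - 1) * c₀ = 0 := by linear_combination h2
      exact sub_eq_zero.mp ((mul_eq_zero.mp this).resolve_right hc₀0)
    rw [hc v, h3, one_smul]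
  -- restrict to the eigenspace
  let W : Submodule F V := LinearMap.ker (T - c₀ • (1 : Module.End F V))
  have hmem : ∀ v, v ∈ W ↔ T v = c₀ • v := by
    intro v
    simp [W, LinearMap.mem_ker, sub_eq_zero]
  have hinv : ∀ (g : P) (v : V), v ∈ W → ρ g v ∈ W := by
    intro g v hv
    rw [hmem] at hv ⊢
    rw [hTg, hv, map_smul]
  have hlW : l ∈ W := (hmem l).mpr hc₀
  have hWtop : W ≠ ⊤ := by
    intro h
    apply hz
    refine ⟨c₀, fun v => ?_⟩
    exact (hmem v).mp (h ▸ Submodule.mem_top)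
  let ρ' : P →* Module.End F W :=
    { toFun := fun g => (ρ g).restrict (hinv g)
      map_one' := by
        ext v
        simp
      map_mul' := by
        intro a b
        ext v
        simp [LinearMap.restrict_apply] }
  have hρ' : ∀ (g : P) (v : W), ((ρ' g v : W) : V) = ρ g v := fun g v => rfl
  have hlt : finrank F W < d := hd ▸ Submodule.finrank_lt hWtop
  have hpow' : ∀ (m : ℕ) (v : W), ((((ρ' u - 1) ^ m) v : W) : V) = ((ρ u - 1) ^ m) (v : V) := by
    intro m
    induction m with
    | zero => simp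
    | succ m ihm =>
      intro v
      rw [pow_succ, Module.End.mul_apply, ihm, pow_succ, Module.End.mul_apply]
      simp [hρ']
  obtain ⟨c, hc⟩ := ih _ hlt W ρ' u ⟨l, hlW⟩ rfl
    (fun x hx => by
      obtain ⟨c, hc⟩ := hker x hx
      exact ⟨c, fun v => Subtype.ext (by simp [hρ', hc])⟩)
    ⟨k, fun v => Subtype.ext (by rw [hpow', hk]; rfl)⟩
    (fun h => hl (congrArg Subtype.val h))
    (Subtype.ext hul)
    (fun v hv => by
      obtain ⟨c, hc⟩ := huniq v.1 (congrArg Subtype.val hv)
      exact ⟨c, Subtype.ext hc⟩)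
    g
  exact ⟨c, congrArg Subtype.val hc⟩

end Cfsg.Agent.Lib.Cover
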